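import Cfsg.Agent.H3.M24Oct
import Cfsg.Agent.H3.M24Sextet

/-!
# The row of `M24` (helper3)
-/

set_option autoImplicit false

open MulAction Subgroup
open scoped Pointwise

namespace Cfsg.Agent.H3.M24Row

open Cfsg

universe u

theorem card_sylow (T : Sylow 2 M24) : Nat.card (T : Subgroup M24) = 1024 := by
  have h2 : Fact (Nat.Prime 2) := ⟨Nat.prime_two⟩
  have h1 := Sylow.card_eq_multiplicity T
  have h3 : Nat.card M24 = 244823040 := M24Loc.card_M24
  rw [h3, show 244823040 = 2 ^ 10 * 239085 by norm_num, Nat.factorization_mul (by norm_num) (by norm_num),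
    Nat.Prime.factorization_pow Nat.prime_two] at h1
  have h4 : Nat.factorization 239085 2 = 0 := Nat.factorization_eq_zero_of_not_dvd (by norm_num)
  simp only [Finsupp.coe_add, Pi.add_apply, Finsupp.single_eq_same, h4] at h1
  rw [h1]
  norm_num

theorem row24 (T : Sylow 2 M24) {L : Subgroup M24} (hL : L ∈ calL (T : Subgroup M24)) :
    (T : Subgroup M24) ≤ normalizer (L : Set M24) ∧
      (Nonempty ((L ⧸ pCore 2 L) ≃* alternatingGroup (Fin 8)) ∨
        Nonempty ((L ⧸ pCore 2 L) ≃* Matrix.ProjectiveSpecialLinearGroup (Fin 3) (ZMod 2)) ∨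
        (IsQuasisimple (L ⧸ pCore 2 L) ∧
          Nonempty (((L ⧸ pCore 2 L) ⧸ center (L ⧸ pCore 2 L)) ≃* alternatingGroup (Fin 6)) ∧
          (Nat.card (L ⧸ pCore 2 L) = 360 ∨ Nat.card (L ⧸ pCore 2 L) = 1080))) := by
  have h1 : 1024 ∣ Nat.card ↥(L ⊔ (T : Subgroup M24)) := by
    rw [← card_sylow T]
    exact Subgroup.card_dvd_of_le le_sup_right
  rcases M24Loc.main (L ⊔ (T : Subgroup M24)) h1 hL.2.2 with ⟨o, ho, h⟩ | ⟨R, hR, h⟩ | ⟨S, hS, h⟩
  · obtain ⟨h3, h4⟩ := M24Oct.row ho T hL h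
    refine ⟨h3, ?_⟩
    rcases h4 with h4 | h4
    · exact Or.inl h4
    · exact Or.inr (Or.inl h4)
  · obtain ⟨h3, h4⟩ := M24Trio.row T hL hR h
    exact ⟨le_sup_right.trans h3, Or.inr (Or.inl h4)⟩
  · obtain ⟨h3, h4⟩ := M24Sextet.row hS T hL h
    exact ⟨le_sup_right.trans h3, Or.inr (Or.inr h4)⟩

end Cfsg.Agent.H3.M24Row
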