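import Cfsg.Agent.MThirteen.FiveRow
import Cfsg.Agent.CpAutMSeven.Hex
import Cfsg.Agent.CpAutMSeven.ZeroComps
import Cfsg.Agent.BpRankZero.MRow
import Cfsg.Agent.H961.SevX

/-!
# Elements of order 13 and 7 of the Monster (helper3, task 1395, M13-C)

* `not_dvd_seven` : `y` of order 7 with a centralizer of even order: `13` does not divide `|C(y)|`;
* `no_triple`.
-/

set_option autoImplicit false
set_option maxRecDepth 100000

namespace Cfsg.Agent.H3.M13C

open Cfsg Cfsg.Agent.MonsterX Cfsg.Agent.MonsterX.InstData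
open Cfsg.Agent.MonsterP Cfsg.Agent.MThirteen
open Cfsg.Agent.LThreeMB (fr XX Zx zD KChart.Cent KChart.pi KChart.chart toXX toXX_surj toCC be)
open Cfsg.Agent.BpRankZero
open Cfsg.Agent.MonsterU.Ch
open Cfsg.Agent.MonsterU.Lam2 (L2)
open Cfsg.Spor (Co1)
open Subgroup (centralizer mem_centralizer_singleton_iff zpowers)

universe u

section

variable {G : Type u} [Group G] {Q : Subgroup G} {z : G} {eta : G → L2}
  {pi : Subgroup.centralizer ({z} : Set G) →* Co1}

/-- elements of square `z` from a quotient of even order -/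
theorem exists_kk [Finite G] {p : ℕ} (hp : p.Prime) (ho : Odd p) (h : Chart Q z eta pi)
    {y : Subgroup.centralizer ({z} : Set G)} (hy : y ^ p = 1) (hfr : fr (pi y) = 1)
    (hu : ∀ s : ↥(centralizer ({(y : G)} : Set G)), s * s = 1 → s * zD y = zD y * s → s = 1 ∨ s = zD y)
    (h2 : 2 ∣ Nat.card (XX (pi y))) : ∃ k : G, k * (y : G) = y * k ∧ k * k = z := by
  have : Fact (Nat.Prime 2) := ⟨Nat.prime_two⟩
  have hfx : Finite (XX (pi y)) :=
    Finite.of_surjective (toXX pi y) (MFive.toXX_surj h hp ho hy)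
  obtain ⟨s, hs⟩ := exists_prime_orderOf_dvd_card' (G := XX (pi y)) 2 h2
  obtain ⟨u, hu'⟩ := MFive.toXX_surj h hp ho hy s
  have hss : s * s = 1 := by rw [← pow_two, ← hs, pow_orderOf_eq_one]
  have hs1 : s ≠ 1 := by rintro rfl; rw [orderOf_one] at hs; norm_num at hs
  have hz2 : z * z = 1 := h.large.z_sq
  have hyG : (y : G) ^ p = 1 := congrArg Subtype.val hy
  have hyz : Commute (y : G) z := mem_centralizer_singleton_iff.1 y.2
  obtain ⟨m, hm⟩ := ho
  -- the element `u ^ p`
  have hv : toXX pi y (u ^ p) = s := by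
    rw [map_pow, hu', hm, pow_succ, pow_mul, pow_two, hss, one_pow, one_mul]
  have huu : toXX pi y (u * u) = 1 := by rw [map_mul, hu', hss]
  obtain ⟨i, hi⟩ := PreUniq.MonGen.ker_sub h ⟨m, hm⟩ hy hfr (u * u) huu
  obtain ⟨w, hw⟩ : ∃ w : G, w = ((u : ↥(centralizer ({(y : G)} : Set G))) : G) := ⟨_, rfl⟩
  have hi' : w * w = (y : G) ^ i ∨ w * w = (y : G) ^ i * z := by rw [hw]; exact hi
  have huy : Commute w (y : G) := by rw [hw]; exact mem_centralizer_singleton_iff.1 u.1.2
  have huz : Commute w z := by rw [hw]; exact congrArg Subtype.val (mem_centralizer_singleton_iff.1 u.2)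
  have hyi : ((y : G) ^ i) ^ p = 1 := by
    rw [← zpow_natCast, ← zpow_mul, mul_comm, zpow_mul, zpow_natCast, hyG, one_zpow]
  have hzp : z ^ p = z := by
    rw [hm, pow_succ, pow_mul, pow_two, hz2, one_pow, one_mul]
  have hww : w ^ p * w ^ p = (w * w) ^ p := by rw [← pow_two, ← pow_two, ← pow_mul, ← pow_mul, mul_comm]
  rcases hi' with h1 | h1
  · -- `u ^ p` is an involution or trivial
    exfalso
    rw [h1, hyi] at hww
    have h3 := hu ((u ^ p : ↥(centralizer ({zD y} : Set ↥(centralizer ({(y : G)} : Set G))))) :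
      ↥(centralizer ({(y : G)} : Set G))) (by
        apply Subtype.ext
        rw [Subgroup.coe_mul, SubmonoidClass.coe_pow, SubmonoidClass.coe_pow, ← hw]
        exact hww) (mem_centralizer_singleton_iff.1 (u ^ p).2)
    apply hs1
    rw [← hv]
    rcases h3 with h4 | h4
    · have h5 : u ^ p = 1 := Subtype.ext h4
      rw [h5, map_one]
    · -- `z ↦ 1`
      have h5 : toCC y (u ^ p) = ⟨z, Subgroup.mem_inf.2 ⟨mem_centralizer_singleton_iff.2 rfl,
          mem_centralizer_singleton_iff.2 hyz.eq.symm⟩⟩ :=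
        Subtype.ext (congrArg (fun t : ↥(centralizer ({(y : G)} : Set G)) => (t : G)) h4)
      have h6 : be pi y (toCC y (u ^ p)) = 1 := by
        apply Subtype.ext
        rw [h5]
        exact (h.pi_eq_one _).2 h.large.z_mem
      show QuotientGroup.mk' (Zx (pi y)) (be pi y (toCC y (u ^ p))) = 1
      rw [h6, map_one]
  · refine ⟨w ^ p, (huy.pow_left p).eq, ?_⟩
    rw [hww, h1, (hyz.zpow_left i).mul_pow, hyi, one_mul, hzp]

end

/-- **fixed rank 0** -/
theorem not_dvd_zero7 {y : centralizer ({KDone.K.z} : Set ↥InstData.M.G)} (hy : orderOf y = 7)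
    (hfr : fr (KChart.pi MFive.Row.hc y) = 1) :
    ¬ 13 ∣ Nat.card ↥(centralizer ({(y : ↥InstData.M.G)} : Set ↥InstData.M.G)) := by
  have hfin : Finite ↥InstData.M.G := Row.finite
  have : Fact (Nat.Prime 13) := ⟨by norm_num⟩
  have : Fact (Nat.Prime 5) := ⟨Nat.prime_five⟩
  have hp : Nat.Prime 7 := by norm_num
  have h := KChart.chart KDone.lft MFive.Row.hc
  have hy7 : y ^ 7 = 1 := by rw [← hy, pow_orderOf_eq_one]
  have hy' : orderOf (KChart.pi MFive.Row.hc y) = 7 := MFive.orderOf_pi h hp (by decide) hy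
  obtain ⟨hS, -, hc⟩ := H961.SevX.xx_facts hy' hfr
  have honly := Seven.only_zD KDone.lft MFive.Row.hc hy7 hfr
  have hz2 : KDone.K.z * KDone.K.z = 1 := h.large.z_sq
  have hz1 : KDone.K.z ≠ 1 := by
    intro h1
    have := LargeExtra.Base.orderOf_z h.large
    rw [h1, orderOf_one] at this
    norm_num at this
  refine not_dvd_zero (r := 7) (p := 13) (q := 5) (m := 3) hp (by decide) (by norm_num) (by norm_num)
    (by norm_num) ?_ Row.not_dvd h hy hfr ?_ hS ?_ ?_ ?_ (exists_kk hp (by decide) h hy7 hfr honly ?_)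
  · intro i hi1 hi3
    interval_cases i <;> norm_num
  · intro d hd hcm
    have hyz : (y : ↥InstData.M.G) * KDone.K.z = KDone.K.z * y := mem_centralizer_singleton_iff.1 y.2
    have h1 : d * KDone.K.z * d⁻¹ * y = y * (d * KDone.K.z * d⁻¹) := by
      calc d * KDone.K.z * d⁻¹ * y = d * KDone.K.z * (d⁻¹ * (y * d)) * d⁻¹ := by group
        _ = d * KDone.K.z * (d⁻¹ * (d * y)) * d⁻¹ := by rw [hd]
        _ = d * (KDone.K.z * y) * d⁻¹ := by group
        _ = d * (y * KDone.K.z) * d⁻¹ := by rw [hyz]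
        _ = (d * y) * KDone.K.z * d⁻¹ := by group
        _ = (y * d) * KDone.K.z * d⁻¹ := by rw [hd]
        _ = y * (d * KDone.K.z * d⁻¹) := by group
    rcases honly ⟨d * KDone.K.z * d⁻¹, mem_centralizer_singleton_iff.2 h1⟩ (Subtype.ext (by
      show d * KDone.K.z * d⁻¹ * (d * KDone.K.z * d⁻¹) = 1
      calc d * KDone.K.z * d⁻¹ * (d * KDone.K.z * d⁻¹) = d * (KDone.K.z * KDone.K.z) * d⁻¹ := by group
        _ = 1 := by rw [hz2]; group)) (Subtype.ext hcm) with h2 | h2
    · exfalso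
      apply hz1
      have h3 : d * KDone.K.z * d⁻¹ = 1 := congrArg Subtype.val h2
      exact conj_eq_one_iff.1 h3
    · exact congrArg Subtype.val h2
  · rw [hc]; decide
  · rw [hc]; norm_num
  · rw [hc]; norm_num
  · rw [hc]; norm_num

/-- **`y` in `C(z)`.** -/
theorem not_dvd_cent {y : centralizer ({KDone.K.z} : Set ↥InstData.M.G)} (hy : orderOf y = 7) :
    ¬ 13 ∣ Nat.card ↥(centralizer ({(y : ↥InstData.M.G)} : Set ↥InstData.M.G)) := by
  have hfin : Finite ↥InstData.M.G := Row.finite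
  have hp : Nat.Prime 7 := by norm_num
  have h := KChart.chart KDone.lft MFive.Row.hc
  rcases CpAutMSeven.Ranks.hranks _ (MFive.orderOf_pi h hp (by decide) hy) with h1 | h1
  · exact not_dvd_zero7 hy h1
  · refine not_dvd_XX hp (by norm_num) (by norm_num) (by rw [Subgroup.orderOf_coe, hy]) ?_
    rw [(MRow.he_facts (CpAutMSeven.ZeroComps.heSix y hy h1)).2]
    norm_num

/-- **`y` of order 7 with a centralizer of even order.** -/
theorem not_dvd_seven {y : ↥InstData.M.G} (hy : orderOf y = 7)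
    (hev : ¬ Odd (Nat.card ↥(centralizer ({y} : Set ↥InstData.M.G)))) :
    ¬ 13 ∣ Nat.card ↥(centralizer ({y} : Set ↥InstData.M.G)) := by
  have hfin : Finite ↥InstData.M.G := Row.finite
  have hp : Nat.Prime 7 := by norm_num
  obtain ⟨g, hg⟩ := CpAutMSeven.Hex.hex hy hev
  have h1 : (g⁻¹ * y * g) * KDone.K.z = KDone.K.z * (g⁻¹ * y * g) := by
    calc (g⁻¹ * y * g) * KDone.K.z = g⁻¹ * (y * (g * KDone.K.z * g⁻¹)) * g := by group
      _ = g⁻¹ * ((g * KDone.K.z * g⁻¹) * y) * g := by rw [hg]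
      _ = KDone.K.z * (g⁻¹ * y * g) := by group
  have ho : orderOf (g⁻¹ * y * g) = 7 := by
    have h2 := (MulAut.conj g⁻¹).orderOf_eq y
    rw [MulAut.conj_apply, inv_inv] at h2
    rw [h2, hy]
  have ho' : orderOf (⟨g⁻¹ * y * g, mem_centralizer_singleton_iff.2 h1⟩ :
      centralizer ({KDone.K.z} : Set ↥InstData.M.G)) = 7 := by
    rw [Subgroup.orderOf_mk, ho]
  have h3 := not_dvd_cent ho'
  refine not_dvd_conj hp hy ho (k := g⁻¹) (i := 1) ?_ h3
  rw [pow_one, inv_inv]

/-- **M13-C** -/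
theorem no_triple {x y v : ↥InstData.M.G} (hx : orderOf x = 13) (hy : orderOf y = 7) (hv : orderOf v = 2)
    (hyv : y * v = v * y) : x * y ≠ y * x := by
  have hfin : Finite ↥InstData.M.G := Row.finite
  intro hxy
  refine not_dvd_seven hy ?_ ?_
  · rw [Nat.not_odd_iff_even, even_iff_two_dvd]
    have h1 : orderOf (⟨v, mem_centralizer_singleton_iff.2 hyv.symm⟩ : ↥(centralizer ({y} : Set ↥InstData.M.G))) = 2 := by
      rw [Subgroup.orderOf_mk, hv]
    rw [← h1]
    exact orderOf_dvd_natCard _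
  · have h1 : orderOf (⟨x, mem_centralizer_singleton_iff.2 hxy⟩ : ↥(centralizer ({y} : Set ↥InstData.M.G))) = 13 := by
      rw [Subgroup.orderOf_mk, hx]
    rw [← h1]
    exact orderOf_dvd_natCard _

end Cfsg.Agent.H3.M13C
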