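import Cfsg.Agent.H3.M24Loc
import Cfsg.Agent.H3.QuotC
import Cfsg.Agent.H3.RgdTop
import Cfsg.Agent.S1553
import Cfsg.Agent.S0381
import Cfsg.Agent.S0256
import Cfsg.Agent.H3.M24Trio

/-!
# `M24`: members of `ℒ(G, T)` in the stabiliser of an octad (helper3)
-/

set_option autoImplicit false

open MulAction Subgroup
open scoped Pointwise

namespace Cfsg.Agent.H3.M24Oct

open Cfsg

/-- the restriction to an octad -/
def rs (o : Finset GolayPt) : ↥(stabilizer M24 o) →* Equiv.Perm ↥o where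
  toFun g := ((g : M24) : Equiv.Perm GolayPt).subtypePerm
    ((SporadicStructure.OctadStabAbs.mem_stabilizer_finset_iff _ o).1 (mem_stabilizer_iff.1 g.2))
  map_one' := by
    apply Equiv.ext
    intro x
    rfl
  map_mul' g h := by
    apply Equiv.ext
    intro x
    rfl

theorem rs_apply {o : Finset GolayPt} (g : ↥(stabilizer M24 o)) (x : ↥o) :
    ((rs o g x : ↥o) : GolayPt) = ((g : M24) : Equiv.Perm GolayPt) x := rfl

variable {o : Finset GolayPt} (ho : o ∈ octads)

include ho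

theorem range_rs : (rs o).range = alternatingGroup ↥o := by
  ext e
  have h1 := Set.ext_iff.1 (S1553.result o ho) e
  refine Iff.trans ?_ h1
  constructor
  · rintro ⟨g, rfl⟩
    exact ⟨((g : M24) : Equiv.Perm GolayPt), (g : M24).2,
      (SporadicStructure.OctadStabAbs.mem_stabilizer_finset_iff _ o).1 (mem_stabilizer_iff.1 g.2), rfl⟩
  · rintro ⟨g, hg, h, rfl⟩
    exact ⟨⟨⟨g, hg⟩, mem_stabilizer_iff.2
      (mem_stabilizer_iff.1 ((SporadicStructure.OctadStabAbs.mem_stabilizer_finset_iff g o).2 h))⟩, rfl⟩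

theorem ker_rs : IsPGroup 2 (rs o).ker := by
  have h2 : Fact (Nat.Prime 2) := ⟨Nat.prime_two⟩
  obtain ⟨-, h1⟩ := S0381.result o ho
  intro g
  refine ⟨1, ?_⟩
  have h3 : (((g : ↥(stabilizer M24 o)) : M24) : Equiv.Perm GolayPt) ∈
      M24 ⊓ fixingSubgroup (Equiv.Perm GolayPt) (o : Set GolayPt) := by
    refine mem_inf.2 ⟨((g : ↥(stabilizer M24 o)) : M24).2, ?_⟩
    rw [mem_fixingSubgroup_iff]
    intro y hy
    have h4 := MonoidHom.mem_ker.1 g.2
    have h5 := congrArg (fun f : Equiv.Perm ↥o => ((f ⟨y, hy⟩ : ↥o) : GolayPt)) h4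
    exact h5
  have h4 := h1 _ h3
  rw [pow_one, pow_two]
  apply Subtype.ext; apply Subtype.ext; apply Subtype.ext
  exact h4

/-- the members of `ℒ(G, T)` in an octad stabiliser -/
theorem row (T : Sylow 2 M24) {L : Subgroup M24} (hL : L ∈ calL (T : Subgroup M24))
    (h : L ⊔ (T : Subgroup M24) ≤ stabilizer M24 o) :
    (T : Subgroup M24) ≤ normalizer (L : Set M24) ∧
      (Nonempty ((L ⧸ pCore 2 L) ≃* alternatingGroup (Fin 8)) ∨
        Nonempty ((L ⧸ pCore 2 L) ≃* Matrix.ProjectiveSpecialLinearGroup (Fin 3) (ZMod 2))) := by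
  classical
  have h2 : Fact (Nat.Prime 2) := ⟨Nat.prime_two⟩
  have hTM : (T : Subgroup M24) ≤ stabilizer M24 o := le_sup_right.trans h
  have hLM : L ≤ stabilizer M24 o := le_sup_left.trans h
  let ψ : ↥(stabilizer M24 o) →* ↥(alternatingGroup ↥o) := (rs o).codRestrict _ (fun x => by
    rw [← range_rs ho]
    exact ⟨x, rfl⟩)
  have hψ : Function.Surjective ψ := by
    rintro ⟨y, hy⟩
    rw [← range_rs ho] at hy
    obtain ⟨x, rfl⟩ := hy
    exact ⟨x, rfl⟩
  have hk : ψ.ker = (rs o).ker := MonoidHom.ker_codRestrict _ _ _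
  have hker : IsPGroup 2 ψ.ker := hk ▸ ker_rs ho
  have D := QuotC.down hL hTM hLM ψ hker
  have h8 : Fintype.card ↥o = 8 := by rw [Fintype.card_coe]; exact ho.2
  have e8 : alternatingGroup ↥o ≃* alternatingGroup (Fin 8) := Equiv.altCongrHom (Fintype.equivFinOfCardEq h8)
  obtain ⟨f⟩ := S0256.result (F := ZMod 2) (by simp [ZMod.card])
  let S' : Sylow 2 ↥(alternatingGroup ↥o) := (T.subtype hTM).mapSurjective hψ
  have hS' : (S' : Subgroup ↥(alternatingGroup ↥o)) = ((T : Subgroup M24).subgroupOf (stabilizer M24 o)).map ψ := by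
    rw [Sylow.coe_mapSurjective]
    rfl
  have hc := D.comp
  have hs := D.syl
  rw [← hS'] at hc hs
  obtain ⟨h3, h4⟩ := RgdTop.four (F := ZMod 2) (by simp [ZMod.card]) (e8.trans f.symm) S' hc hs
  rw [hS'] at h3
  refine ⟨D.norm h3, ?_⟩
  obtain ⟨g⟩ := D.quot
  rcases h4 with h4 | h4
  · left
    have hs8 : IsSimpleGroup (alternatingGroup (Fin 8)) := alternatingGroup.isSimpleGroup (by simp)
    have hs : IsSimpleGroup (alternatingGroup ↥o) := H5.Small.simple_of_equiv e8.symm
    have hst : IsSimpleGroup (⊤ : Subgroup ↥(alternatingGroup ↥o)) := H5.Small.simple_of_equiv topEquiv.symm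
    have hns : ¬ Group.IsSolvable (⊤ : Subgroup ↥(alternatingGroup ↥o)) := M24Trio.not_solvable_of_card (by
      have h1 : Nontrivial ↥o := by
        rw [← Fintype.one_lt_card_iff_nontrivial, h8]; norm_num
      have h9 : Nat.card (⊤ : Subgroup ↥(alternatingGroup ↥o)) = 20160 := by
        rw [Subgroup.card_top, nat_card_alternatingGroup, Nat.card_eq_fintype_card, h8]
        rfl
      rw [h9]
      norm_num)
    have hb := H5.Small.pCore_eq_bot_of_simple hns
    rw [h4] at g
    exact ⟨(((g.trans (QuotientGroup.quotientMulEquivOfEq hb)).trans QuotientGroup.quotientBot).trans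
      topEquiv).trans e8⟩
  · obtain ⟨h4⟩ := h4
    exact Or.inr ⟨g.trans h4⟩

end Cfsg.Agent.H3.M24Oct
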