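import Cfsg.Agent.H129.TriD4
import Cfsg.Agent.H185.MeetChev
import Cfsg.Agent.H934.OutB
import Cfsg.Agent.S2608
import Cfsg.Agent.S1082

/-!
# `PΩ₈⁺(q)`, `q > 3` a power of `3`: `Meet 3` (triality and field automorphisms of order `3`)
-/

set_option autoImplicit false

namespace Cfsg.Agent.H3.MeetD4

open scoped Pointwise
open Cfsg Cfsg.Lie Cfsg.Agent.ChevalleyStructure Cfsg.Agent.ChevalleyStructure.Elts
  Cfsg.Agent.ChevalleyStructure.BNChev Cfsg.Agent.ChevalleyStructure.WeylConj Cfsg.Agent.Schreier.ChevLocal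
  Cfsg.Agent.ChevalleyStructure.W0Core Cfsg.Agent.ChevalleyStructure.W0Main Cfsg.Agent.ChevalleyStructure.W0Small
  Cfsg.Agent.S1042 Cfsg.Agent.H70.AutFix Cfsg.Agent.H70.ChevTab Cfsg.Agent.H70.ChevFix Cfsg.Agent.H70.ChevField
open Cfsg.Agent.H79.FieldAuts (fieldHom fieldHom_xS)
open Cfsg.Agent.H903.SylMeet
open Cfsg.Agent.Nodes Cfsg.Agent.H129.TriD4 Cfsg.Agent.BpExc.EmbInst
open Cfsg.Agent.ChevalleyStructure.D4Fixed (sig sig_18 sig_13 sig_12 sig_14 sig_5 sig_10 sig_11 sig_9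
  c_18_13 c_18_12 c_13_12 c_18_10 c_18_11 c_13_11 c_5_13 c_5_12 c_10_12 c_5_10 c_5_11 c_10_11)
open Cfsg.Agent.ChevalleyStructure.D4Cols (xU coe_xU)

universe u

variable {F : Type u} [Field F]

theorem hD : InList chevD4 := RGDTwD4.hp.inList

theorem xG_eq (r : ℕ) (t : F) : xG hD r t = xU r t := by
  apply Units.ext
  rw [coe_xU]
  exact coe_xG hD r t

theorem gam_xe {r s : ℕ} {t : F} (h : sig (RingHom.id F) (xU r t) = xU s t) :
    gam F (xe hD r t) = xe hD s t := by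
  apply Subtype.ext
  rw [coe_gam, coe_xe, coe_xe, xG_eq, xG_eq]
  exact h

theorem gam_ne {r s : ℕ} (h : ∀ t : F, gam F (xe hD r t) = xe hD s t)
    (h' : ∀ t : F, gam F (xe hD (chevD4.neg r) t) = xe hD (chevD4.neg s) t) (t : F) :
    gam F (ne hD r t) = ne hD s t := by
  rw [ne_def, ne_def, map_mul, map_mul, h, h']

theorem gam_he {r s : ℕ} (h : ∀ t : F, gam F (ne hD r t) = ne hD s t) (t : F) :
    gam F (he hD r t) = he hD s t := by
  rw [he_eq, he_eq, map_mul, map_inv, h, h]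

theorem n18 (t : F) : gam F (ne hD 18 t) = ne hD 13 t :=
  gam_ne (fun t => gam_xe (sig_18 _ t)) (fun t => gam_xe (sig_5 _ t)) t

theorem n13 (t : F) : gam F (ne hD 13 t) = ne hD 12 t :=
  gam_ne (fun t => gam_xe (sig_13 _ t)) (fun t => gam_xe (sig_10 _ t)) t

theorem n12 (t : F) : gam F (ne hD 12 t) = ne hD 18 t :=
  gam_ne (fun t => gam_xe (sig_12 _ t)) (fun t => gam_xe (sig_11 _ t)) t

theorem n14 (t : F) : gam F (ne hD 14 t) = ne hD 14 t :=
  gam_ne (fun t => gam_xe (sig_14 _ t)) (fun t => gam_xe (sig_9 _ t)) t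

theorem xe_commute {r s : ℕ} {t u : F} (h : Commute (xU r t) (xU s u)) :
    Commute (xe hD r t : ↥(chevD4.group F)) (xe hD s u) := by
  apply Subtype.ext
  show xG hD r t * xG hD s u = xG hD s u * xG hD r t
  rw [xG_eq, xG_eq]
  exact h

theorem ne_commute {r s : ℕ} {t u : F} (h1 : ∀ t u : F, Commute (xU r t) (xU s u))
    (h2 : ∀ t u : F, Commute (xU r t) (xU (chevD4.neg s) u))
    (h3 : ∀ t u : F, Commute (xU (chevD4.neg r) t) (xU s u))
    (h4 : ∀ t u : F, Commute (xU (chevD4.neg r) t) (xU (chevD4.neg s) u)) :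
    Commute (ne hD r t : ↥(chevD4.group F)) (ne hD s u) := by
  rw [ne_def, ne_def]
  have a1 := fun t u => xe_commute (h1 t u)
  have a2 := fun t u => xe_commute (h2 t u)
  have a3 := fun t u => xe_commute (h3 t u)
  have a4 := fun t u => xe_commute (h4 t u)
  refine Commute.mul_left ?_ (Commute.mul_left ?_ ?_) <;> refine Commute.mul_right ?_ (Commute.mul_right ?_ ?_)
  · exact a1 _ _
  · exact a2 _ _
  · exact a1 _ _
  · exact a3 _ _
  · exact a4 _ _
  · exact a3 _ _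
  · exact a1 _ _
  · exact a2 _ _
  · exact a1 _ _

theorem c1 (t u : F) : Commute (ne hD 18 t : ↥(chevD4.group F)) (ne hD 13 u) :=
  ne_commute c_18_13 c_18_10 c_5_13 c_5_10

theorem c2 (t u : F) : Commute (ne hD 18 t : ↥(chevD4.group F)) (ne hD 12 u) :=
  ne_commute c_18_12 c_18_11 c_5_12 c_5_11

theorem c3 (t u : F) : Commute (ne hD 13 t : ↥(chevD4.group F)) (ne hD 12 u) :=
  ne_commute c_13_12 c_13_11 c_10_12 c_10_11

/-- the Coxeter element -/
def cox (F : Type u) [Field F] : ↥(chevD4.group F) := ne hD 18 1 * ne hD 13 1 * ne hD 12 1 * ne hD 14 1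

theorem gam_cox : gam F (cox F) = cox F := by
  unfold cox
  rw [map_mul, map_mul, map_mul, n18, n13, n12, n14]
  congr 1
  rw [mul_assoc, ← (c2 1 1).eq, ← mul_assoc, ← (c1 1 1).eq]

/-- the word -/
def wd : List ℕ := [0, 2, 3, 1, 0, 2, 3, 1, 0, 2, 3, 1]

theorem wd_ok : wordOK tabD4 wd w0D4 24 = true := by decide +kernel

theorem nW_wd : nW hD F wd = ((cox F ^ 3 : ↥(chevD4.group F)) : GL chevD4.Idx F) := by
  have h0 : nS hD F 0 = nG hD 18 (1 : F) := rfl
  have h1 : nS hD F 1 = nG hD 14 (1 : F) := rfl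
  have h2 : nS hD F 2 = nG hD 13 (1 : F) := rfl
  have h3 : nS hD F 3 = nG hD 12 (1 : F) := rfl
  have h4 : ((cox F : ↥(chevD4.group F)) : GL chevD4.Idx F) =
      nG hD 18 (1 : F) * nG hD 13 (1 : F) * nG hD 12 (1 : F) * nG hD 14 (1 : F) := rfl
  rw [Subgroup.coe_pow, h4]
  simp only [wd, nW_cons, nW_nil, h0, h1, h2, h3, pow_succ, pow_zero, one_mul, mul_one, mul_assoc]

theorem lt_wd : ∀ i ∈ wd, i < 4 := by decide +kernel

theorem lt_wd' : ∀ i ∈ wd, chevD4.simple i < 24 := by decide +kernel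

/-- the longest element -/
def kk (F : Type u) [Field F] : ↥(chevD4.group F) := cox F ^ 3

theorem gam_kk : gam F (kk F) = kk F := by
  unfold kk
  rw [map_pow, gam_cox]

theorem field_kk (σ : RingAut F) : fieldHom hD F σ (kk F) = kk F := by
  have h0 := Cfsg.Agent.H185.MeetChev.st_ne hD σ (F := F) (i := 0) (by decide) 1
  have h1 := Cfsg.Agent.H185.MeetChev.st_ne hD σ (F := F) (i := 1) (by decide) 1
  have h2 := Cfsg.Agent.H185.MeetChev.st_ne hD σ (F := F) (i := 2) (by decide) 1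
  have h3 := Cfsg.Agent.H185.MeetChev.st_ne hD σ (F := F) (i := 3) (by decide) 1
  rw [map_one] at h0 h1 h2 h3
  have h4 : cox F = ne hD (chevD4.simple 0) 1 * ne hD (chevD4.simple 2) 1 * ne hD (chevD4.simple 3) 1 *
      ne hD (chevD4.simple 1) 1 := rfl
  unfold kk
  rw [map_pow, h4, map_mul, map_mul, map_mul, h0, h1, h2, h3]

theorem kk_conj {s : ℕ} (hs : s < 24) : ∃ η : ℤ, (η = 1 ∨ η = -1) ∧ look w0D4 s < 24 ∧
    ∀ t : F, ((kk F : ↥(chevD4.group F)) : GL chevD4.Idx F) * xG hD s t *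
      ((kk F : ↥(chevD4.group F)) : GL chevD4.Idx F)⁻¹ = xG hD (look w0D4 s) ((η : F) * t) := by
  have hlt : ∀ i < chevD4.rank, ∀ s < chevD4.nroots, chevD4.reflectRoot i s < chevD4.nroots := by
    intro i hi s h
    rw [tabD4_ok i hi s h]
    exact rangeOK_spec (rangeD4 i hi) h
  obtain ⟨h1, η, hη, h2⟩ := nW_conj hD F hlt wd lt_wd hs
  have h3 : actW chevD4 wd s = look w0D4 s :=
    ((actW_eq tabD4_ok rangeD4 wd lt_wd hs).1).trans (wordOK_spec wd_ok hs)
  rw [h3] at h1 h2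
  refine ⟨η, hη, h1, fun t => ?_⟩
  have h4 := h2 t
  rw [nW_wd] at h4
  exact h4

theorem kk_U : ∀ u ∈ UU chevD4 F, ((kk F * u * (kk F)⁻¹ : ↥(chevD4.group F)) : GL chevD4.Idx F) ∈
    chevD4.negUnipotent F := by
  have h1 : chevD4.posUnipotent F ≤ (chevD4.negUnipotent F).comap
      (MulAut.conj ((kk F : ↥(chevD4.group F)) : GL chevD4.Idx F)).toMonoidHom := by
    rw [posUnipotent_le_iff hD]
    intro r hr t
    obtain ⟨η, -, h2, h⟩ := kk_conj (F := F) hr.1
    show ((kk F : ↥(chevD4.group F)) : GL chevD4.Idx F) * xG hD r t *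
      ((kk F : ↥(chevD4.group F)) : GL chevD4.Idx F)⁻¹ ∈ chevD4.negUnipotent F
    rw [h]
    refine xG_mem_negUnipotent hD ?_ _
    rw [neg_iff signD4 (by decide)]
    obtain ⟨h3, h4, h5⟩ := flipOK_spec flipD4 hr.1
    exact h3.1 ((pos_iff signD4 _).1 hr).1
  intro u hu
  exact h1 hu

theorem gam_xe' (r : Fin 24) (t : F) : gam F (xe hD r.val t) = xe hD (rh r).val (((ed r : ℤ) : F) * t) :=
  Subtype.ext (sig_ed (RingHom.id F) r t)

theorem gam_UU : ∀ u ∈ UU chevD4 F, gam F u ∈ UU chevD4 F := by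
  have h : chevD4.posUnipotent F ≤ ((UU chevD4 F).comap (gam F).toMonoidHom).map (chevD4.group F).subtype := by
    rw [posUnipotent_le_iff hD]
    intro r hr t
    refine ⟨xe hD r t, ?_, rfl⟩
    show gam F (xe hD r t) ∈ UU chevD4 F
    have h1 := gam_xe' (F := F) ⟨r, hr.1⟩ t
    have h2 : gam F (xe hD r t) = xe hD (rh ⟨r, hr.1⟩).val (((ed ⟨r, hr.1⟩ : ℤ) : F) * t) := h1
    rw [h2]
    exact xG_mem_posUnipotent hD (pos_d4 ⟨r, hr.1⟩ hr) _
  intro u hu
  obtain ⟨v, hv, e⟩ := h hu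
  have h1 : v = u := Subtype.ext e
  exact h1 ▸ hv

theorem gam_cube : gam F * (gam F * gam F) = 1 := by
  ext1 g
  exact Subtype.ext (sig_one_cube g.2)

theorem gam_pow_three : gam F ^ 3 = 1 := by
  rw [pow_succ, pow_succ, pow_one, mul_assoc]
  exact gam_cube

theorem gam_field (σ : RingAut F) : gam F * fieldHom hD F σ = fieldHom hD F σ * gam F := by
  have key : ∀ r < 24, ∀ t : F, gam F (fieldHom hD F σ (xe hD r t)) = fieldHom hD F σ (gam F (xe hD r t)) := by
    intro r hr t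
    have h1 := gam_xe' (F := F) ⟨r, hr⟩ t
    have h2 := gam_xe' (F := F) ⟨r, hr⟩ (σ t)
    have h3 := Cfsg.Agent.H185.MeetChev.st_xe hD σ (F := F) (r := r) hr t
    have h4 := Cfsg.Agent.H185.MeetChev.st_xe hD σ (F := F) (r := (rh ⟨r, hr⟩).val) (rh ⟨r, hr⟩).2
      (((ed ⟨r, hr⟩ : ℤ) : F) * t)
    have h1' : gam F (xe hD r t) = xe hD (rh ⟨r, hr⟩).val (((ed ⟨r, hr⟩ : ℤ) : F) * t) := h1
    have h2' : gam F (xe hD r (σ t)) = xe hD (rh ⟨r, hr⟩).val (((ed ⟨r, hr⟩ : ℤ) : F) * σ t) := h2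
    rw [h3, h1', h2', h4, map_mul, map_intCast]
  apply Cfsg.Agent.H79.SimpleGen.equiv_ext hD
  · intro i hi t
    exact key _ (simple_lt hD hi) t
  · intro i hi t
    exact key _ (neg_simple_lt hD hi) t

theorem zp {a : MulAut ↥(chevD4.group F)} (ha : a ∈ Subgroup.zpowers (gam F)) :
    a = 1 ∨ a = gam F ∨ a = gam F * gam F := by
  obtain ⟨k, rfl⟩ := Subgroup.mem_zpowers_iff.1 ha
  have h1 : (gam F) ^ k = (gam F) ^ (k % 3) := by
    conv_lhs => rw [← Int.emod_add_mul_ediv k 3, zpow_add, zpow_mul]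
    have : gam F ^ (3 : ℤ) = 1 := by exact_mod_cast gam_pow_three (F := F)
    rw [this, one_zpow, mul_one]
  have h2 : k % 3 = 0 ∨ k % 3 = 1 ∨ k % 3 = 2 := by omega
  rw [h1]
  rcases h2 with h | h | h
  · left; rw [h, zpow_zero]
  · right; left; rw [h, zpow_one]
  · right; right; rw [h]; exact zpow_two _

/-- the group of graph and field automorphisms -/
noncomputable def st (F : Type u) [Field F] : ↥(Subgroup.zpowers (gam F)) × RingAut F →* MulAut ↥(chevD4.group F) :=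
  MonoidHom.noncommCoprod (Subgroup.subtype _) (fieldHom hD F) (by
    rintro ⟨a, ha⟩ σ
    show a * fieldHom hD F σ = fieldHom hD F σ * a
    rcases zp ha with rfl | rfl | rfl
    · rw [one_mul, mul_one]
    · exact gam_field σ
    · rw [mul_assoc, gam_field, ← mul_assoc, gam_field, mul_assoc])

theorem st_apply (γ : ↥(Subgroup.zpowers (gam F)) × RingAut F) (g : ↥(chevD4.group F)) :
    st F γ g = (γ.1 : MulAut ↥(chevD4.group F)) (fieldHom hD F γ.2 g) := rfl

theorem st_U (γ : ↥(Subgroup.zpowers (gam F)) × RingAut F) : ∀ u ∈ UU chevD4 F, st F γ u ∈ UU chevD4 F := by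
  intro u hu
  rw [st_apply]
  have h1 := Cfsg.Agent.H185.MeetChev.st_UU hD γ.2 u hu
  rcases zp γ.1.2 with h | h | h
  · rw [h]; exact h1
  · rw [h]; exact gam_UU _ h1
  · rw [h]; exact gam_UU _ (gam_UU _ h1)

theorem st_kk (γ : ↥(Subgroup.zpowers (gam F)) × RingAut F) : st F γ (kk F) = kk F := by
  rw [st_apply, field_kk]
  rcases zp γ.1.2 with h | h | h
  · rw [h]; rfl
  · rw [h]; exact gam_kk
  · rw [h]
    show gam F (gam F (kk F)) = kk F
    rw [gam_kk, gam_kk]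

theorem he_ne_13 {c d : F} (hc : c ≠ 0) (hd : d ≠ 0) (h : he hD 18 c = (he hD 13 d : ↥(chevD4.group F))) :
    c ^ 2 = 1 := by
  have h1 := he_conj hD (D := chevD4) (i := 0) (s := 18) (by decide) (by decide) hc (1 : F)
  have h2 := he_conj hD (D := chevD4) (i := 2) (s := 18) (by decide) (by decide) hd (1 : F)
  have e1 : chevD4.simple 0 = 18 := rfl
  have e2 : chevD4.simple 2 = 13 := rfl
  have e3 : chevD4.cartan 0 18 = 2 := rfl
  have e4 : chevD4.cartan 2 18 = 0 := rfl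
  rw [e1, e3] at h1
  rw [e2, e4, ← h] at h2
  have h3 := xe_inj hD (s := _) (by decide) (h1.symm.trans h2)
  simpa using h3

theorem he_ne_12 {c d : F} (hc : c ≠ 0) (hd : d ≠ 0) (h : he hD 18 c = (he hD 12 d : ↥(chevD4.group F))) :
    c ^ 2 = 1 := by
  have h1 := he_conj hD (D := chevD4) (i := 0) (s := 18) (by decide) (by decide) hc (1 : F)
  have h2 := he_conj hD (D := chevD4) (i := 3) (s := 18) (by decide) (by decide) hd (1 : F)
  have e1 : chevD4.simple 0 = 18 := rfl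
  have e2 : chevD4.simple 3 = 12 := rfl
  have e3 : chevD4.cartan 0 18 = 2 := rfl
  have e4 : chevD4.cartan 3 18 = 0 := rfl
  rw [e1, e3] at h1
  rw [e2, e4, ← h] at h2
  have h3 := xe_inj hD (s := _) (by decide) (h1.symm.trans h2)
  simpa using h3

theorem he_18 {c d : F} (hc : c ≠ 0) (hd : d ≠ 0) (h : he hD 18 c = (he hD 18 d : ↥(chevD4.group F))) :
    c = d := by
  obtain ⟨s, hs, e⟩ : ∃ s < 24, chevD4.cartan 0 s = 1 := by decide +kernel
  have h1 := he_conj hD (D := chevD4) (i := 0) (s := s) (by decide) hs hc (1 : F)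
  have h2 := he_conj hD (D := chevD4) (i := 0) (s := s) (by decide) hs hd (1 : F)
  have e1 : chevD4.simple 0 = 18 := rfl
  rw [e1, e] at h1 h2
  rw [← h] at h2
  have h3 := xe_inj hD hs (h1.symm.trans h2)
  simpa using h3

theorem h18 (t : F) : gam F (he hD 18 t) = he hD 13 t := gam_he n18 t
theorem h13 (t : F) : gam F (he hD 13 t) = he hD 12 t := gam_he n13 t

theorem st_he (γ : ↥(Subgroup.zpowers (gam F)) × RingAut F) {c : F} (hc : c ≠ 0) (hc2 : c ^ 2 ≠ 1)
    (h : st F γ (he hD 18 c) = he hD 18 c) : γ.1 = 1 ∧ γ.2 c = c := by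
  have e1 : (he hD 18 c : ↥(chevD4.group F)) = he hD (chevD4.simple 0) c := rfl
  have h0 := Cfsg.Agent.H185.MeetChev.st_he hD γ.2 (F := F) (i := 0) (by decide) c
  rw [← e1] at h0
  have e2 : (he hD (chevD4.simple 0) (γ.2 c) : ↥(chevD4.group F)) = he hD 18 (γ.2 c) := rfl
  have hσ : γ.2 c ≠ 0 := by
    rw [Ne, map_eq_zero]
    exact hc
  rw [st_apply, h0, e2] at h
  rcases zp γ.1.2 with h1 | h1 | h1
  · rw [h1] at h
    exact ⟨Subtype.ext h1, he_18 hσ hc h⟩
  · exfalso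
    rw [h1, h18] at h
    exact hc2 (he_ne_13 hc hσ h.symm)
  · exfalso
    rw [h1] at h
    have h2 : gam F (gam F (he hD 18 (γ.2 c))) = he hD 18 c := h
    rw [h18, h13] at h2
    exact hc2 (he_ne_12 hc hσ h2.symm)

theorem exists_sq_ne [Fintype F] (h : 3 < Fintype.card F) :
    ∃ c : Fˣ, (∀ x : Fˣ, x ∈ Subgroup.zpowers c) ∧ (c : F) ^ 2 ≠ 1 := by
  obtain ⟨c, hc⟩ := IsCyclic.exists_generator (α := Fˣ)
  refine ⟨c, hc, fun h2 => ?_⟩
  have h3 : c ^ 2 = 1 := Units.ext (by rw [Units.val_pow_eq_pow_val]; exact h2)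
  have h4 : orderOf c = Nat.card Fˣ := orderOf_eq_card_of_forall_mem_zpowers hc
  have h5 := Nat.le_of_dvd (by norm_num) (orderOf_dvd_of_pow_eq_one h3)
  rw [h4, Nat.card_units, Nat.card_eq_fintype_card] at h5
  omega

theorem card_zp [Fintype F] (h : 3 < Fintype.card F) : Nat.card ↥(Subgroup.zpowers (gam F)) = 3 := by
  rw [Nat.card_zpowers]
  apply orderOf_eq_prime gam_pow_three
  intro h1
  obtain ⟨c, -, hc⟩ := exists_sq_ne h
  have h2 := h18 (c : F)
  rw [h1] at h2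
  exact hc (he_ne_13 c.ne_zero c.ne_zero h2)

/-- **`D₄(q)`, `q > 3` a power of `3`.** -/
theorem meet_d4 {F : Type} [Field F] [Fintype F] [CharP F 3] (h : 3 < Fintype.card F) :
    Meet 3 ↥(chevD4.group F) := by
  have hfact : Fact (Nat.Prime 3) := ⟨Nat.prime_three⟩
  obtain ⟨hsim, hna⟩ := Cfsg.Agent.S2155.simple (F := F) chevD4 hD (fun h => by
    rcases h with h | h
    · exact absurd (congrArg ChevalleyDatum.rank h) (by decide)
    · exact absurd (congrArg ChevalleyDatum.rank h) (by decide))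
  have hfinG : Finite ↥(chevD4.group F) := inferInstance
  have hfinR : Finite (RingAut F) := Finite.of_injective (fun σ : RingAut F => (σ : F → F)) DFunLike.coe_injective
  have hfinA : Finite (MulAut ↥(chevD4.group F)) :=
    Finite.of_injective (fun σ : MulAut ↥(chevD4.group F) => (σ : ↥(chevD4.group F) → ↥(chevD4.group F)))
      DFunLike.coe_injective
  obtain ⟨S, hS⟩ := Cfsg.Agent.S2326.result (F := F) 3 chevD4 hD
  have hUp : IsPGroup 3 ↥(UU chevD4 F) := by
    have h1 := S.isPGroup'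
    rw [hS] at h1
    exact h1
  have hUi : ¬ 3 ∣ (UU chevD4 F).index := by
    have h1 := S.not_dvd_index
    rw [hS] at h1
    exact h1
  obtain ⟨f, -, hF⟩ := FiniteField.card F 3
  have hf : 1 ≤ (f : ℕ) := f.pos
  have hRA : Nat.card (RingAut F) = f := Cfsg.Agent.Lib.FieldAutCard.card_ringAut hf hF
  have hout : Nat.card (Cfsg.Out ↥(chevD4.group F)) ∣
      8 * Nat.card (↥(Subgroup.zpowers (gam F)) × RingAut F) := by
    obtain ⟨e⟩ := Cfsg.Agent.S1082.result (F := F)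
    rw [Cfsg.Agent.H934.OutB.card_out_congr e]
    have h1 := Cfsg.Agent.S2608.result (F := F) (p := 3) (m := 4) hf hF (by norm_num) le_rfl
    rw [if_pos rfl] at h1
    obtain ⟨e1⟩ := h1
    rw [Nat.card_congr e1.toEquiv, Nat.card_prod, Nat.card_prod, card_zp h, hRA]
    have h2 : Nat.card (Equiv.Perm (Fin 4)) = 24 := by
      rw [Nat.card_eq_fintype_card, Fintype.card_perm, Fintype.card_fin]
      rfl
    have h3 : Nat.card (Multiplicative (ZMod f)) = f := Nat.card_zmod f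
    rw [h2, h3]
    exact ⟨1, by ring⟩
  obtain ⟨c, hc, hc2⟩ := exists_sq_ne h
  have hone : ∀ u ∈ UU chevD4 F,
      ((kk F * u * (kk F)⁻¹ : ↥(chevD4.group F)) : GL chevD4.Idx F) ∈ chevD4.borelSubgroup F → u = 1 := by
    intro u hu h
    have h1 : kk F * u * (kk F)⁻¹ = 1 := Subtype.ext (one_of_mem_borel_of_mem_neg h (kk_U u hu) hD)
    have h2 : kk F * u * (kk F)⁻¹ = kk F * 1 * (kk F)⁻¹ := by rw [h1]; group
    exact mul_left_cancel (mul_right_cancel h2)
  set t : ↥(chevD4.group F) := he hD 18 (c : F) with ht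
  have htH1 : (t : GL chevD4.Idx F) ∈ chevD4.diagonalSubgroup F := he_mem_HH hD (by decide) c.ne_zero
  have htH : ∀ γ, ((st F γ t : ↥(chevD4.group F)) : GL chevD4.Idx F) ∈ chevD4.diagonalSubgroup F := by
    intro γ
    have h1 : ((fieldHom hD F γ.2 t : ↥(chevD4.group F)) : GL chevD4.Idx F) ∈ chevD4.diagonalSubgroup F := by
      have h0 := Cfsg.Agent.H185.MeetChev.st_he hD γ.2 (F := F) (i := 0) (by decide) (c : F)
      have e1 : t = he hD (chevD4.simple 0) (c : F) := rfl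
      rw [e1, h0]
      refine he_mem_HH hD (by decide) ?_
      rw [Ne, map_eq_zero]
      exact c.ne_zero
    have h2 : ∀ g : ↥(chevD4.group F), (g : GL chevD4.Idx F) ∈ chevD4.diagonalSubgroup F →
        ((gam F g : ↥(chevD4.group F)) : GL chevD4.Idx F) ∈ chevD4.diagonalSubgroup F := by
      intro g hg
      rw [coe_gam]
      exact sig_diag hg
    rw [st_apply]
    rcases zp γ.1.2 with h | h | h
    · rw [h]; exact h1
    · rw [h]; exact h2 _ h1
    · rw [h]; exact h2 _ (h2 _ h1)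
  refine H185.MeetChar.meet_of_frame hna hUp hUi (st F) st_U (m := 8) (by norm_num) hout (kk F) t st_kk ?_ ?_ ?_
  · intro u hu h
    exact hone u hu (Subgroup.mem_sup_left h)
  · intro u hu γ h
    apply hone u hu
    have h1 : ((t * (kk F * u * (kk F)⁻¹) * (st F γ t)⁻¹ : ↥(chevD4.group F)) : GL chevD4.Idx F) ∈
        chevD4.posUnipotent F := h
    have h2 : ((kk F * u * (kk F)⁻¹ : ↥(chevD4.group F)) : GL chevD4.Idx F) =
        (t : GL chevD4.Idx F)⁻¹ * ((t * (kk F * u * (kk F)⁻¹) * (st F γ t)⁻¹ : ↥(chevD4.group F)) :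
          GL chevD4.Idx F) * ((st F γ t : ↥(chevD4.group F)) : GL chevD4.Idx F) := by
      simp only [Subgroup.coe_mul, Subgroup.coe_inv]
      group
    rw [h2]
    exact mul_mem (mul_mem (Subgroup.mem_sup_right (inv_mem htH1)) (Subgroup.mem_sup_left h1))
      (Subgroup.mem_sup_right (htH γ))
  · intro γ _ h
    have h1 : (t * (st F γ t)⁻¹ : ↥(chevD4.group F)) = 1 := by
      apply Subtype.ext
      have h2 : ((t * (st F γ t)⁻¹ : ↥(chevD4.group F)) : GL chevD4.Idx F) ∈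
          chevD4.posUnipotent F ⊓ chevD4.diagonalSubgroup F := by
        refine Subgroup.mem_inf.2 ⟨h, ?_⟩
        rw [Subgroup.coe_mul, Subgroup.coe_inv]
        exact mul_mem htH1 (inv_mem (htH γ))
      rw [(Cfsg.Agent.S1036.result (F := F) chevD4 hD).2, Subgroup.mem_bot] at h2
      exact h2
    obtain ⟨h4, h5⟩ := st_he γ c.ne_zero hc2 (mul_inv_eq_one.1 h1).symm
    refine Prod.ext h4 ?_
    ext y
    rcases eq_or_ne y 0 with rfl | hy
    · rw [map_zero]; rfl
    · obtain ⟨k, hk⟩ := hc (Units.mk0 y hy)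
      have h6 : y = (c : F) ^ k := by
        have := congrArg Units.val hk
        simpa using this.symm
      rw [h6, map_zpow₀, h5]
      rfl

/-- **`PΩ₈⁺(q)`, `q > 3` a power of `3`.** -/
theorem meet3_D4_char {F : Type} [Field F] [Fintype F] [CharP F 3] (h : 3 < Fintype.card F) :
    Cfsg.Agent.H903.SylMeet.Meet 3 (Cfsg.POmega F (Cfsg.quadFormPlus 4 F)) := by
  obtain ⟨e⟩ := Cfsg.Agent.S1082.result (F := F)
  exact (meet_d4 h).congr e

end Cfsg.Agent.H3.MeetD4
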