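import Mathlib
import Cfsg.Agent.H1.RowPSLFive
import Cfsg.Agent.H1.RowU
import Cfsg.Agent.S0243

/-!
# `L₄(2)`, `L₅(2)` are not of the form `SL₂(q)` and have elements of order 4 (helper3)
-/

set_option autoImplicit false

namespace Cfsg.Agent.H3.NotSq

open Matrix Cfsg.Agent.TitsThree.KSideA Cfsg.Agent.H1.RowU
open scoped commutatorElement

theorem SqOne.congr {G H : Type*} [Group G] [Group H] (e : G ≃* H) (h : SqOne G) : SqOne H := by
  rintro x ⟨k, hk⟩
  have h1 := h (e.symm x) ⟨k, by rw [← map_pow, hk, map_one]⟩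
  apply e.symm.injective
  rw [map_pow, h1, map_one]

theorem sl_not_sqOne {n : ℕ} {F : Type*} [Field F] [CharP F 2] {a b c : Fin n} (hab : a ≠ b) (hbc : b ≠ c)
    (hac : a ≠ c) : ¬ SqOne (SpecialLinearGroup (Fin n) F) := by
  intro h
  have h2 : (1 : F) + 1 = 0 := CharTwo.add_self_eq_zero 1
  have hsq : ∀ i j : Fin n, tv i j (1 : F) * tv i j 1 = 1 := fun i j => by
    rw [← tv_add, h2, tv_zero]
  have hinv : ∀ i j : Fin n, (tv i j (1 : F))⁻¹ = tv i j 1 := fun i j => by
    rw [inv_eq_iff_mul_eq_one, hsq]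
  have hC : (tv a b (1 : F) * tv b c 1) ^ 2 = tv a c 1 := by
    have h3 := tv_comm hab hbc hac (1 : F) 1
    rw [commutatorElement_def, hinv, hinv, mul_one] at h3
    rw [pow_two, ← h3]
    group
  have h4 := h (tv a b (1 : F) * tv b c 1) ⟨2, by
    rw [show 2 ^ 2 = 2 * 2 by norm_num, pow_mul, hC, pow_two, hsq]⟩
  rw [hC, ← tv_zero (F := F) a c] at h4
  exact one_ne_zero (Nodes.RGDTypeA.tv_inj hac h4)

theorem psl_not_sqOne {m : ℕ} {F : Type*} [Field F] [Fintype F] [CharP F 2] (hF : Fintype.card F = 2) :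
    ¬ SqOne (ProjectiveSpecialLinearGroup (Fin (m + 3)) F) := by
  intro h
  let e : SpecialLinearGroup (Fin (m + 3)) F ≃* ProjectiveSpecialLinearGroup (Fin (m + 3)) F :=
    MulEquiv.ofBijective (Nodes.RGDTypeA.pr (m + 2) F) ⟨H1.RowPSLFive.pr_injective hF, Nodes.RGDTypeA.pr_surjective⟩
  exact sl_not_sqOne (n := m + 3) (F := F) (a := ⟨0, by omega⟩) (b := ⟨1, by omega⟩) (c := ⟨2, by omega⟩)
    (fun h => absurd (congrArg Fin.val h) (by norm_num)) (fun h => absurd (congrArg Fin.val h) (by norm_num))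
    (fun h => absurd (congrArg Fin.val h) (by norm_num)) (SqOne.congr e.symm h)

/-- `|SL₂(q)|` is neither `|L₄(2)|` nor `|L₅(2)|` -/
theorem card_sl_ne {F : Type*} [Field F] [Fintype F] :
    Nat.card (SpecialLinearGroup (Fin 2) F) ≠ 20160 ∧ Nat.card (SpecialLinearGroup (Fin 2) F) ≠ 9999360 := by
  obtain ⟨k, hk⟩ : ∃ k, Fintype.card F = k + 2 := ⟨Fintype.card F - 2, by
    have := Fintype.one_lt_card (α := F)
    omega⟩
  have h := S0242.result (F := F) hk 2 (by norm_num)
  rw [Fin.prod_univ_two] at h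
  simp only [Fin.val_zero, Fin.val_one, pow_zero, pow_one] at h
  have e1 : (k + 2) ^ 2 - 1 = (k + 1) * (k + 3) := by
    have : (k + 2) ^ 2 = (k + 1) * (k + 3) + 1 := by ring
    omega
  have e2 : (k + 2) ^ 2 - (k + 2) = (k + 1) * (k + 2) := by
    have : (k + 2) ^ 2 = (k + 1) * (k + 2) + (k + 2) := by ring
    omega
  have e3 : k + 2 - 1 = k + 1 := by omega
  rw [e1, e2, e3] at h
  have h' : Nat.card (SpecialLinearGroup (Fin 2) F) = (k + 3) * ((k + 1) * (k + 2)) := by
    apply Nat.eq_of_mul_eq_mul_left (by omega : 0 < k + 1)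
    rw [h]; ring
  rw [h']
  constructor
  · intro h1
    rcases Nat.lt_or_ge k 26 with h2 | h2
    · have : (k + 3) * ((k + 1) * (k + 2)) ≤ 28 * (26 * 27) := by gcongr <;> omega
      omega
    · have : 29 * (27 * 28) ≤ (k + 3) * ((k + 1) * (k + 2)) := by gcongr <;> omega
      omega
  · intro h1
    rcases Nat.lt_or_ge k 214 with h2 | h2
    · have : (k + 3) * ((k + 1) * (k + 2)) ≤ 216 * (214 * 215) := by gcongr <;> omega
      omega
    · have : 217 * (215 * 216) ≤ (k + 3) * ((k + 1) * (k + 2)) := by gcongr <;> omega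
      omega

end Cfsg.Agent.H3.NotSq
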